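import Groth.Agent.SplitP1.Basic
import Groth.Agent.ModStalk.Exact
import Groth.Agent.Props12.FinLocFree
import Groth.Agent.Coherent.FinitePres
import Groth.Agent.SerreDual.ProjRep

/-!
# Splitting off a twist from a vector bundle on the projective line
-/

set_option autoImplicit false
set_option linter.style.haveILetI false
set_option backward.isDefEq.respectTransparency.types false
set_option maxHeartbeats 800000

universe u

open CategoryTheory CategoryTheory.Limits AlgebraicGeometry Opposite TopologicalSpace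
open Groth.Agent.Coherent Groth.Agent.PicLib Groth.Agent.AmpleLib Groth.Agent.EulerLib Groth.Agent.SerreDual

namespace Groth.Agent.SplitP1

section General

variable {X : Scheme.{u}}

/-- The stalks of a locally free module of rank `r` have bases of `r` elements. -/
theorem nonempty_basis_stalk {r : ℕ} {M : X.Modules} (h : FlatMod.IsFinLocFreeOfRank r M) (x : X) :
    Nonempty (Module.Basis (Fin r) (X.presheaf.stalk x) (M.presheaf.stalk x)) := by
  haveI := LocFreeLib.isQCoh_of_isFinLocFreeOfRank h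
  obtain ⟨W₀, hxW₀, ⟨e⟩⟩ := h x
  obtain ⟨W, hW, hxW, hWU⟩ := Opens.isBasis_iff_nbhd.mp X.isBasis_affineOpens hxW₀
  obtain ⟨c⟩ := Props12.exists_basis_sections e hWU
  let _ := (X.presheaf.germ W x hxW).hom.toAlgebra
  let _ := Module.compHom (M.presheaf.stalk x) (X.presheaf.germ W x hxW).hom
  have : IsScalarTower Γ(X, W) (X.presheaf.stalk x) (M.presheaf.stalk x) :=
    IsScalarTower.of_algebraMap_smul fun _ _ => rfl
  let φ : Γ(M, W) →ₗ[Γ(X, W)] M.presheaf.stalk x :=
    { toFun := M.presheaf.germ W x hxW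
      map_add' := map_add _
      map_smul' := QCohLoc.germ_smul' (M := M) hxW }
  have := EGA43.QcohFP.isLocalizedModule_germ M hW hxW φ fun _ => rfl
  have := hW.isLocalization_stalk ⟨x, hxW⟩
  exact ⟨c.ofIsLocalizedModule (X.presheaf.stalk x) (hW.primeIdealOf ⟨x, hxW⟩).asIdeal.primeCompl φ⟩

theorem isCoh_of_rank [IsLocallyNoetherian X] {r : ℕ} {M : X.Modules} (h : FlatMod.IsFinLocFreeOfRank r M) :
    Coh.IsCoh M := by
  haveI := LocFreeLib.isQCoh_of_isFinLocFreeOfRank h
  refine (isCoh_iff_finite_sections M).2 ⟨inferInstance, fun U hU => ?_⟩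
  haveI := EGA43.QcohFP.finitePresentation_sections M
    (Props12.isFP_of_isFinLocFree M (LocFreeLib.isFinLocFree_of_rank h)) hU
  infer_instance

variable [IsIntegral X] [IsLocallyNoetherian X] {M : X.Modules}
  (hM : Coh.IsCoh M) (hfree : ∀ x : X, Module.Free (X.presheaf.stalk x) (M.presheaf.stalk x))

include hM hfree

/-- A section vanishing on a nonempty open vanishes. -/
theorem eq_zero_of_vanish {V W : X.Opens} (hWV : W ≤ V) (hW : (W : Set X).Nonempty) (z : Γ(M, V))
    (hz : resM M hWV z = 0) : z = 0 := by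
  haveI := hM.1
  refine sec_ext M z 0 fun y hy => ?_
  obtain ⟨U, n, hyU, ⟨e⟩⟩ := Props12.exists_nhd_free M (isFP_of_isCoh hM) y (hfree y)
  obtain ⟨A, hA, hyA, hAle⟩ := exists_isAffineOpen_mem_and_subset (x := y) (U := U ⊓ V) ⟨hyU, hy⟩
  have hAV : A ≤ V := fun p hp => (hAle hp).2
  refine ⟨A, hAV, hyA, ?_⟩
  rw [map_zero]
  obtain ⟨b⟩ := Props12.exists_basis_sections e (W := A) fun p hp => (hAle hp).1
  have hη : genericPoint X ∈ A ⊓ W :=
    ⟨((genericPoint_spec X).mem_open_set_iff A.2).2 ⟨y, trivial, hyA⟩,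
     ((genericPoint_spec X).mem_open_set_iff W.2).2 (by simpa using hW)⟩
  obtain ⟨f, hfle, hηf⟩ := hA.exists_basicOpen_le (⟨genericPoint X, hη.2⟩ : W) hη.1
  haveI : Nonempty A := ⟨⟨y, hyA⟩⟩
  have h0 : resM M (X.basicOpen_le f) (resM M hAV z) = 0 := by
    rw [resM_resM, show resM M ((X.basicOpen_le f).trans hAV) z = resM M hfle (resM M hWV z) from
      (resM_resM M hWV hfle z).symm, hz, map_zero]
  obtain ⟨m, hm⟩ := qcoh_exists_pow_smul_eq_zero hA M f (resM M hAV z) h0
  have hf : f ^ m ≠ 0 := pow_ne_zero _ fun h => by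
    rw [h, Scheme.basicOpen_zero] at hηf; exact hηf
  refine b.repr.injective (Finsupp.ext fun i => ?_)
  have h := congrArg (fun v => b.repr v i) hm
  beta_reduce at h
  rw [map_smul, map_zero, Finsupp.smul_apply, Finsupp.zero_apply, smul_eq_mul] at h
  rw [map_zero, Finsupp.zero_apply]
  exact (mul_eq_zero.1 h).resolve_left hf

/-- A nonzero map from an invertible module is a monomorphism. -/
theorem mono_of_ne_zero' {L : X.Modules} (hL : PicF.IsInvertible L) (φ : L ⟶ M) (hne : φ ≠ 0) : Mono φ := by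
  have hgen : ∀ (U : X.Opens) (e : Γ(L, U)), IsGen L U e → (U : Set X).Nonempty → φ.app U e ≠ 0 := by
    intro U e he hU h0
    refine hne (Scheme.Modules.hom_ext _ _ fun V => ConcreteCategory.hom_ext _ _ fun s => ?_)
    show φ.app V s = 0
    rcases (V : Set X).eq_empty_or_nonempty with hV | hV
    · exact sec_ext M _ _ fun y hy => absurd hy (by rw [← SetLike.mem_coe, hV]; exact id)
    have hW : ((V ⊓ U : X.Opens) : Set X).Nonempty :=
      ⟨genericPoint X, ((genericPoint_spec X).mem_open_set_iff V.2).2 (by simpa using hV),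
        ((genericPoint_spec X).mem_open_set_iff U.2).2 (by simpa using hU)⟩
    refine eq_zero_of_vanish hM hfree inf_le_left hW _ ?_
    obtain ⟨r, hr⟩ := (he (V ⊓ U) inf_le_right).2 (resM L inf_le_left s)
    beta_reduce at hr
    rw [← app_resM, ← hr, Scheme.Modules.Hom.app_smul, app_resM, h0, map_zero, smul_zero]
  refine SerreDual.mono_of_app_injective φ fun V => (injective_iff_map_eq_zero _).2 fun s hs => ?_
  refine sec_ext L s 0 fun y hy => ?_
  obtain ⟨U, hyU, e, he⟩ := exists_isGen hL y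
  refine ⟨V ⊓ U, inf_le_left, ⟨hy, hyU⟩, ?_⟩
  rw [map_zero]
  obtain ⟨r, hr⟩ := (he (V ⊓ U) inf_le_right).2 (resM L inf_le_left s)
  beta_reduce at hr
  rcases eq_or_ne r 0 with rfl | hr0
  · rw [← hr, zero_smul]
  exfalso
  have hB : ((X.basicOpen r : X.Opens) : Set X).Nonempty := by
    by_contra hB
    exact hr0 ((basicOpen_eq_bot_iff r).1 (Opens.ext ((Set.not_nonempty_iff_eq_empty.1 hB).trans Opens.coe_bot.symm)))
  refine hgen _ _ (he.restrict ((X.basicOpen_le r).trans inf_le_right)) hB ?_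
  have h1 : r • φ.app (V ⊓ U) (resM L inf_le_right e) = 0 := by
    rw [← Scheme.Modules.Hom.app_smul, hr, app_resM, hs, map_zero]
  have h2 := congrArg (resM M (X.basicOpen_le r)) h1
  rw [resM_smul, map_zero] at h2
  have hu : IsUnit (res (X.basicOpen_le r) r) := RingedSpace.isUnit_res_basicOpen X.toRingedSpace r
  rw [← resM_resM L (inf_le_right : V ⊓ U ≤ U) (X.basicOpen_le r) e, app_resM]
  exact hu.smul_eq_zero.1 h2

end General

variable {k : Type u} [Field k]

local notation "P" => CohB1.ProjSpace 1 k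
local notation "T(" d ")" => Twist.twistProjSpace 1 k d

/-- Sections killed by multiplication with sections generating at each point vanish. -/
theorem eq_zero_of_tmul {X : Scheme.{u}} {A L : X.Modules} (z : Γ(A, ⊤)) {ι : Type*} (σ : ι → Γ(L, ⊤))
    (hcov : ∀ x : X, ∃ i, x ∈ glocus L (σ i)) (h : ∀ i, tmul z (σ i) = 0) : z = 0 := by
  refine sec_ext A z 0 fun y _ => ?_
  obtain ⟨i, hi⟩ := hcov y
  refine ⟨glocus L (σ i), le_top, hi, ?_⟩
  rw [map_zero]
  refine (bijective_tmul_gen (M := A) (isGen_glocus (σ i)) _ le_rfl).1 ?_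
  beta_reduce
  rw [resM_self, ← resM_tmul, h i, map_zero, tmul_zero_left]

theorem subsingleton_h0_of_twist_one {A B : (P).Modules} (e : CohB1.tensorMod A T(1) ≅ B)
    (h : Subsingleton (Coh.HH P B 0)) : Subsingleton (Coh.HH P A 0) := by
  let φ := baseHom k P
  haveI : Subsingleton (GA φ B) := (CurveRR24.hhZero k B).symm.toEquiv.subsingleton
  suffices hA : Subsingleton (GA φ A) from
    haveI := hA
    (CurveRR24.hhZero k A).toEquiv.subsingleton
  refine subsingleton_of_forall_eq 0 fun z => ?_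
  obtain ⟨σ, hσ⟩ : ∃ σ : Fin 2 → Γ(T(1), ⊤), ∀ x : P, ∃ i, x ∈ glocus T(1) (σ i) := by
    refine ⟨fun i => UPLib.sec (MvPolynomial.X i) (MvPolynomial.isHomogeneous_X k i), fun x => ?_⟩
    obtain ⟨i, hi⟩ := UPLib.exists_degOne_projSpace (R := CommRingCat.of k) 1 x
    refine ⟨i, ?_⟩
    erw [UPLib.glocus_sec (UPLib.adjoin_one_eq_top (UPLib.linForm_mem (R := k) 1) (UPLib.isSymmetricAlgebra_linForm 1))]
    exact hi
  refine eq_zero_of_tmul (A := A) (show Γ(A, ⊤) from z) σ hσ fun i => ?_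
  have hb : e.hom.app ⊤ (tmul (show Γ(A, ⊤) from z) (σ i)) = 0 := Subsingleton.elim (α := GA φ B) _ _
  have hid := congrArg (fun f => f.app ⊤ (tmul (show Γ(A, ⊤) from z) (σ i))) e.hom_inv_id
  rw [← show e.inv.app ⊤ (e.hom.app ⊤ (tmul (show Γ(A, ⊤) from z) (σ i))) = tmul (show Γ(A, ⊤) from z) (σ i) from hid,
    hb, map_zero]

variable {r : ℕ} {E : (CohB1.ProjSpace 1 k).Modules} (hE : Coh.IsCoh E)
  (hb : ∀ x : CohB1.ProjSpace 1 k,
    Nonempty (Module.Basis (Fin (r + 1)) ((CohB1.ProjSpace 1 k).presheaf.stalk x) (E.presheaf.stalk x)))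

include hE hb

/-- The largest twist mapping to the bundle. -/
theorem exists_max_twist : ∃ d : ℤ, Nontrivial (T(d) ⟶ E) ∧ Subsingleton (T(d + 1) ⟶ E) := by
  haveI := hE.1
  have hfree : ∀ x : P, Module.Free ((P).presheaf.stalk x) (E.presheaf.stalk x) := fun x =>
    Module.Free.of_basis (hb x).some
  have hne : ∃ m : ℤ, Nontrivial (T(m) ⟶ E) := by
    haveI := hasFiniteBiproducts P
    obtain ⟨N₀, hN₀⟩ := (projPowCover 1 k).exists_epi hE
    obtain ⟨n, π, hπ⟩ := hN₀ N₀ le_rfl _ (twistGens 1 k N₀)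
    refine ⟨-(N₀ : ℤ), ?_⟩
    by_contra hc
    rw [not_nontrivial_iff_subsingleton] at hc
    have h0 : π = 0 := biproduct.hom_ext' _ _ fun i => Subsingleton.elim (α := (T(-(N₀ : ℤ)) ⟶ E)) _ _
    haveI := hπ
    have hz : IsZero E := IsZero.of_epi_eq_zero π h0
    obtain ⟨x⟩ := (inferInstance : Nonempty P)
    have hs : IsZero ((DerSch.stalkFunctor P x).obj E) := (DerSch.stalkFunctor P x).map_isZero hz
    have := ModuleCat.subsingleton_of_isZero hs
    exact (hb x).some.ne_zero 0 (Subsingleton.elim (α := ((DerSch.stalkFunctor P x).obj E : Type u)) _ _)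
  haveI := CurveRR24.finite_HH_of_isCoh k hE 0
  have hbdd : ∀ m : ℤ, Nontrivial (T(m) ⟶ E) → m ≤ Module.finrank k (Coh.HH P E 0) := by
    intro m hm
    obtain ⟨φ, hφ⟩ := exists_ne (0 : T(m) ⟶ E)
    haveI := mono_of_ne_zero' hE hfree (inv_twist k m) φ hφ
    have := (SerreDual.finrank_h0_le_of_mono (k := k) φ).2
    rw [h0_twist] at this
    omega
  obtain ⟨d, hd, hmax⟩ := Int.exists_greatest_of_bdd
    (show ∃ b : ℤ, ∀ m : ℤ, Nontrivial (T(m) ⟶ E) → m ≤ b from ⟨_, hbdd⟩) hne
  refine ⟨d, hd, ?_⟩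
  by_contra hc
  rw [not_subsingleton_iff_nontrivial] at hc
  have := hmax (d + 1) hc
  omega

/-- A twist splits off. -/
theorem exists_retraction : ∃ (d : ℤ) (s : T(d) ⟶ E) (ρ : E ⟶ T(d)), s ≫ ρ = 𝟙 _ := by
  haveI := hE.1
  have hfree : ∀ x : P, Module.Free ((P).presheaf.stalk x) (E.presheaf.stalk x) := fun x =>
    Module.Free.of_basis (hb x).some
  obtain ⟨d, hd, hd1⟩ := exists_max_twist hE hb
  obtain ⟨s, hs⟩ := exists_ne (0 : T(d) ⟶ E)
  haveI := mono_of_ne_zero' hE hfree (inv_twist k d) s hs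
  let S := ShortComplex.mk s (cokernel.π s) (cokernel.condition s)
  have hS : S.ShortExact := { exact := ShortComplex.exact_of_g_is_cokernel _ (cokernelIsCokernel _) }
  -- no sections of `E(-1-d)`, hence none of `F(-1-d)` and of `F(-2-d)`
  let N₁ := T(-1 - d)
  let N₂ := T(-2 - d)
  have hE1 : Subsingleton (Coh.HH P (CohB1.tensorMod E N₁) 0) := by
    haveI := hd1
    obtain ⟨a⟩ := exists_assocIso' E (inv_twist k (-1 - d)) (inv_twist k (d + 1))
    obtain ⟨e⟩ := nonempty_twist_add k (a := -1 - d) (b := d + 1) (c := 0) (by omega)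
    obtain ⟨e₀⟩ := nonempty_twist_zero k
    let back : CohB1.tensorMod (CohB1.tensorMod E N₁) T(d + 1) ≅ E :=
      a ≪≫ tensorIso (Iso.refl E) (e ≪≫ e₀) ≪≫ tensorComm _ _ ≪≫ unitTensorIso E
    let g := (Linear.homCongr k (unitTensorIso T(d + 1)) back).toLinearMap ∘ₗ
      tensorRightHom k (Coh.structureModule P) (CohB1.tensorMod E N₁) T(d + 1) ∘ₗ
      (homUnitHH k (CohB1.tensorMod E N₁)).symm.toLinearMap
    refine Function.Injective.subsingleton (f := g) fun x y h => ?_
    exact (homUnitHH k _).symm.injective (tensorRightHom_injective k _ _ (inv_twist k (d + 1))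
      ((Linear.homCongr k (unitTensorIso T(d + 1)) back).injective h))
  have hF1 : Subsingleton (Coh.HH P (CohB1.tensorMod (cokernel s) N₁) 0) := by
    haveI := hE1
    have hO : Subsingleton (Coh.HH P (CohB1.tensorMod T(d) N₁) (0 + 1)) := by
      obtain ⟨e⟩ := nonempty_twist_add k (a := d) (b := -1 - d) (c := -1) (by omega)
      haveI := Coherent.subsingleton_HH_twist (n := 1) (R := k) (d := (-1 : ℤ)) 1 (by omega) (by omega)
      exact CurveRR24.subsingleton_HH_congr e.symm 1 inferInstance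
    haveI : Subsingleton (Coh.HH P (twistSeq S N₁).X₂ 0) := hE1
    exact (hmap_surjective_of_shortExact k (twistSeq_shortExact (inv_twist k _) hS) 0 hO).subsingleton
  have hF2 : Subsingleton (Coh.HH P (CohB1.tensorMod (cokernel s) N₂) 0) := by
    obtain ⟨a⟩ := exists_assocIso' (cokernel s) (inv_twist k (-2 - d)) (inv_twist k 1)
    obtain ⟨e⟩ := nonempty_twist_add k (a := -2 - d) (b := 1) (c := -1 - d) (by omega)
    exact subsingleton_h0_of_twist_one (a ≪≫ tensorIso (Iso.refl _) e) hF1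
  have hi := hmap_injective_of_shortExact k (twistSeq_shortExact (inv_twist k (-2 - d)) hS) 0 hF2
  -- retraction after twisting
  obtain ⟨c⟩ := nonempty_twist_add k (a := d) (b := -2 - d) (c := -2) (by omega)
  obtain ⟨t, ht, hrep⟩ := exists_rep k
  let sN := tensorRightHom k T(d) E N₂ s
  have hEN : Coh.IsCoh (CohB1.tensorMod E N₂) := EulerLib.isCoh_twist (inv_twist k _) hE
  have hTN : Coh.IsCoh (CohB1.tensorMod T(d) N₂) := EulerLib.isCoh_twist (inv_twist k _) (isCoh_twist_obj k d)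
  obtain ⟨g, hg⟩ := (hmap k sN (0 + 1)).exists_leftInverse_of_injective (LinearMap.ker_eq_bot.2 hi)
  obtain ⟨ψ, hψ⟩ : ∃ ψ, ψ ∘ₗ hmap k sN (0 + 1) = t ∘ₗ hmap k c.hom 1 :=
    ⟨(t ∘ₗ hmap k c.hom 1) ∘ₗ g, by rw [LinearMap.comp_assoc, hg, LinearMap.comp_id]⟩
  obtain ⟨φ, hφ⟩ := (hrep _ hEN).2 ψ
  have hcomp : sN ≫ φ = c.hom := (hrep _ hTN).1 (by
    rw [theta_comp, hφ]
    exact hψ)
  let r' : CohB1.tensorMod E N₂ ⟶ CohB1.tensorMod T(d) N₂ := φ ≫ c.inv
  haveI : Module.Finite k (CohB1.tensorMod E N₂ ⟶ CohB1.tensorMod T(d) N₂) := by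
    haveI := finite_hom_twist_two k hEN
    exact Module.Finite.equiv (Linear.homCongr k (Iso.refl _) c.symm)
  obtain ⟨i⟩ := nonempty_inverse k (-2 - d)
  obtain ⟨ρ, hρ⟩ := (tensorRightHom_surjective (inv_twist k _) (inv_twist k _) i).2.2 r'
  refine ⟨d, s, ρ, tensorRightHom_injective k _ _ (inv_twist k (-2 - d)) ?_⟩
  rw [tensorRightHom_comp, tensorRightHom_id, hρ]
  show sN ≫ φ ≫ c.inv = _
  rw [← Category.assoc, hcomp, Iso.hom_inv_id]

end Groth.Agent.SplitP1
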