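import Groth.Agent.SerreDual.Projective
import Groth.Agent.SerreDual.Curve
import Groth.Agent.CurveRR24.DegOneApps
import Groth.Agent.UPLib.SecKernel
import Groth.Agent.TwistLib.TwistInv
import Groth.Agent.LocFreeLib.Semilocal

/-!
# Homomorphisms between twists on the projective line
-/

set_option autoImplicit false
set_option linter.style.haveILetI false
set_option backward.isDefEq.respectTransparency.types false
set_option maxHeartbeats 800000

universe u

open CategoryTheory CategoryTheory.Limits AlgebraicGeometry Opposite TopologicalSpace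
open Groth.Agent.Coherent Groth.Agent.PicLib Groth.Agent.AmpleLib Groth.Agent.EulerLib Groth.Agent.SerreDual

namespace Groth.Agent.SplitP1

variable (k : Type u) [Field k]

local notation "P" => CohB1.ProjSpace 1 k
local notation "T(" d ")" => Twist.twistProjSpace 1 k d

instance : IsProper ((CohB1.ProjSpace 1 k) ↘ Spec (CommRingCat.of k)) :=
  Coherent.isProper_projSpace_toSpec 1 k

instance : IsIntegral (CohB1.ProjSpace 1 k) := CurveLib.isIntegral_projSpace k 1

instance : AlgebraicGeometry.IsNoetherian (CohB1.ProjSpace 1 k) := isNoetherian_of_proper (k := k) (X := P)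

theorem inv_twist (d : ℤ) : PicF.IsInvertible T(d) := SerreDual.isInvertible_twist 1 k d

theorem isCoh_twist_obj (d : ℤ) : Coh.IsCoh T(d) := CurveRR24.isCoh_of_isInvertible k (inv_twist k d)

theorem nonempty_twist_add {a b c : ℤ} (h : a + b = c) : Nonempty (CohB1.tensorMod T(a) T(b) ≅ T(c)) :=
  TwistLib.nonempty_tensor_twist_iso (fun x => by
    obtain ⟨i, hi⟩ := UPLib.exists_degOne_projSpace (R := CommRingCat.of k) 1 x
    exact ⟨_, MvPolynomial.isHomogeneous_X k i, hi⟩) h

theorem nonempty_twist_zero : Nonempty (T(0) ≅ Coh.structureModule P) :=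
  TwistLib.nonempty_twist_zero_iso

theorem nonempty_inverse (d : ℤ) : Nonempty (CohB1.tensorMod T(d) T(-d) ≅ Coh.structureModule P) := by
  obtain ⟨e⟩ := nonempty_twist_add k (a := d) (b := -d) (c := 0) (by omega)
  obtain ⟨e'⟩ := nonempty_twist_zero k
  exact ⟨e ≪≫ e'⟩

theorem h0_twist (d : ℤ) : Module.finrank k (Coh.HH P T(d) 0) = (d + 1).toNat := by
  by_cases hd : 0 ≤ d
  · obtain ⟨m, rfl⟩ := Int.eq_ofNat_of_zero_le hd
    let f : Fin (m + 1) → {μ : Fin (1 + 1) →₀ ℕ // μ.degree = m} := fun i =>
      ⟨Finsupp.single 0 (i : ℕ) + Finsupp.single 1 (m - i), by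
        rw [map_add, Finsupp.degree_single, Finsupp.degree_single]
        have := i.2
        omega⟩
    have hf : Function.Bijective f := by
      refine ⟨fun a b h => ?_, fun μ => ?_⟩
      · have := congrArg (fun x => x.1 0) h
        simp [f] at this
        exact Fin.ext this
      · have h2 : μ.1 0 + μ.1 1 = m := by
          have h := μ.2
          rw [Finsupp.degree_eq_sum, Fin.sum_univ_two] at h
          exact h
        refine ⟨⟨μ.1 0, by omega⟩, Subtype.ext (Finsupp.ext fun i => ?_)⟩
        fin_cases i <;> simp [f] <;> omega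
    obtain ⟨e⟩ := Coherent.nonempty_HH_zero_twist (n := 1) (R := k) m
    obtain ⟨p⟩ := Coherent.nonempty_equiv_homogeneous (R := k) m (Equiv.ofBijective f hf)
    rw [e.finrank_eq, ← p.finrank_eq, (Finsupp.linearEquivFunOnFinite k k (Fin (m + 1))).finrank_eq,
      Module.finrank_fin_fun]
    omega
  · haveI := Coherent.subsingleton_HH_twist (n := 1) (R := k) (d := d) 0 (by omega) (by omega)
    rw [Module.finrank_zero_of_subsingleton]
    omega

/-- The dual of `H¹` is given by maps to `O(-2)`. -/
theorem exists_rep : ∃ t : Coh.HH P T(-2) 1 →ₗ[k] k, Function.Injective t ∧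
    ∀ F : (P).Modules, Coh.IsCoh F → Rep t F := by
  obtain ⟨t, ht⟩ := exists_trace (n := 1) (k := k)
  exact ⟨t, ht, fun F hF => rep_coh t ht hF⟩

theorem finite_hom_twist_two {G : (P).Modules} (hG : Coh.IsCoh G) : Module.Finite k (G ⟶ T(-2)) := by
  obtain ⟨t, -, hrep⟩ := exists_rep k
  haveI := CurveRR24.finite_HH_of_isCoh k hG 1
  exact Module.Finite.equiv (dualEquiv t (hrep G hG)).symm

variable {k}

theorem tensorRightHom_comp {A B C N : (P).Modules} (f : A ⟶ B) (g : B ⟶ C) :
    tensorRightHom k A C N (f ≫ g) = tensorRightHom k A B N f ≫ tensorRightHom k B C N g :=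
  AmpleLib.hom_ext fun U a b => by
    show (tensorMap (f ≫ g) (𝟙 N)).app U (tmul a b) = (tensorMap g (𝟙 N)).app U ((tensorMap f (𝟙 N)).app U (tmul a b))
    rw [tensorMap_tmul, tensorMap_tmul, tensorMap_tmul]
    rfl

theorem tensorRightHom_id {A N : (P).Modules} :
    tensorRightHom k A A N (𝟙 A) = 𝟙 _ :=
  AmpleLib.hom_ext fun U a b => by
    show (tensorMap (𝟙 A) (𝟙 N)).app U (tmul a b) = tmul a b
    rw [tensorMap_tmul]
    rfl

/-- Tensoring with an invertible module is full on maps, when the spaces of maps are finite. -/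
theorem tensorRightHom_surjective {A B N M : (P).Modules} (hN : PicF.IsInvertible N) (hM : PicF.IsInvertible M)
    (e : CohB1.tensorMod N M ≅ Coh.structureModule P)
    [Module.Finite k (CohB1.tensorMod A N ⟶ CohB1.tensorMod B N)] :
    Module.Finite k (A ⟶ B) ∧ Function.Bijective (tensorRightHom k A B N) := by
  obtain ⟨a⟩ := exists_assocIso' A hN hM
  obtain ⟨b⟩ := exists_assocIso' B hN hM
  let back (C : (P).Modules) (c : CohB1.tensorMod (CohB1.tensorMod C N) M ≅ CohB1.tensorMod C (CohB1.tensorMod N M)) :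
      CohB1.tensorMod (CohB1.tensorMod C N) M ≅ C :=
    c ≪≫ tensorIso (Iso.refl C) e ≪≫ tensorComm _ _ ≪≫ unitTensorIso C
  let g : (CohB1.tensorMod A N ⟶ CohB1.tensorMod B N) →ₗ[k] (A ⟶ B) :=
    (Linear.homCongr k (back A a) (back B b)).toLinearMap ∘ₗ tensorRightHom k _ _ M
  have hg : Function.Injective g := fun x y h =>
    tensorRightHom_injective k _ _ hM ((Linear.homCongr k (back A a) (back B b)).injective h)
  have hf := tensorRightHom_injective k A B hN
  haveI : Module.Finite k (A ⟶ B) := Module.Finite.of_injective (tensorRightHom k A B N) hf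
  have hdim : Module.finrank k (A ⟶ B) = Module.finrank k (CohB1.tensorMod A N ⟶ CohB1.tensorMod B N) :=
    le_antisymm (LinearMap.finrank_le_finrank_of_injective hf) (LinearMap.finrank_le_finrank_of_injective hg)
  exact ⟨inferInstance, hf, (LinearMap.injective_iff_surjective_of_finrank_eq_finrank hdim).1 hf⟩

/-- Maps from a coherent module to a twist form a finite dimensional space. -/
theorem finite_hom_twist {G : (P).Modules} (hG : Coh.IsCoh G) (d : ℤ) : Module.Finite k (G ⟶ T(d)) := by
  obtain ⟨e⟩ := nonempty_twist_add k (a := d) (b := -2 - d) (c := -2) (by omega)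
  haveI : Module.Finite k (CohB1.tensorMod G T(-2 - d) ⟶ T(-2)) := finite_hom_twist_two k (isCoh_tensor hG (inv_twist k _))
  haveI : Module.Finite k (CohB1.tensorMod G T(-2 - d) ⟶ CohB1.tensorMod T(d) T(-2 - d)) :=
    Module.Finite.equiv (Linear.homCongr k (Iso.refl _) e.symm)
  obtain ⟨i⟩ := nonempty_inverse k (-2 - d)
  exact (tensorRightHom_surjective (inv_twist k _) (inv_twist k _) i).1
where
  isCoh_tensor {G N : (P).Modules} (hG : Coh.IsCoh G) (hN : PicF.IsInvertible N) :
      Coh.IsCoh (CohB1.tensorMod G N) := EulerLib.isCoh_twist hN hG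

theorem finrank_hom_twist (a b : ℤ) : Module.finrank k (T(a) ⟶ T(b)) = (b - a + 1).toNat := by
  haveI := finite_hom_twist (k := k) (isCoh_twist_obj k a) b
  obtain ⟨i⟩ := nonempty_inverse k a
  obtain ⟨-, h⟩ := SerreDual.finrank_hom_eq (k := k) T(b) (inv_twist k a) (inv_twist k (-a)) i
  obtain ⟨e⟩ := nonempty_twist_add k (a := b) (b := -a) (c := b - a) (by omega)
  rw [← h, CurveRR24.finrank_HH_congr k e 0, h0_twist]

end Groth.Agent.SplitP1
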