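import Groth.Agent.SplitP1.Split
import Groth.Agent.PicLib.FiniteSetTriv
import Mathlib.Data.Fin.Tuple.Sort
import Mathlib.RingTheory.LocalRing.Module

/-!
# Vector bundles on the projective line are sums of twists
-/

set_option autoImplicit false
set_option linter.style.haveILetI false
set_option backward.isDefEq.respectTransparency.types false
set_option maxHeartbeats 800000

universe u

open CategoryTheory CategoryTheory.Limits AlgebraicGeometry Opposite TopologicalSpace
open Groth.Agent.Coherent Groth.Agent.PicLib Groth.Agent.AmpleLib Groth.Agent.EulerLib Groth.Agent.SerreDual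

namespace Groth.Agent.SplitP1

/-- A split sequence `f 0 → E → ∐ f (i+1)` identifies `E` with `∐ f`. -/
noncomputable def sigmaConsIso {C : Type*} [Category C] [Preadditive C] {n : ℕ} (f : Fin (n + 1) → C)
    [HasCoproduct f] [HasCoproduct fun i : Fin n => f i.succ] {E F : C} (s : f 0 ⟶ E) (ρ : E ⟶ f 0)
    (π : E ⟶ F) (σ : F ⟶ E) (hsρ : s ≫ ρ = 𝟙 _) (hσπ : σ ≫ π = 𝟙 _) (hid : ρ ≫ s + π ≫ σ = 𝟙 E)
    (hσρ : σ ≫ ρ = 0) (hsπ : s ≫ π = 0) (e : F ≅ ∐ fun i : Fin n => f i.succ) : E ≅ ∐ f where
  hom := ρ ≫ Sigma.ι f 0 + π ≫ e.hom ≫ Sigma.desc (fun i : Fin n => Sigma.ι f i.succ)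
  inv := Sigma.desc (Fin.cases s (fun i => Sigma.ι (fun i : Fin n => f i.succ) i ≫ e.inv ≫ σ))
  hom_inv_id := by
    have h : Sigma.desc (fun i : Fin n => Sigma.ι f i.succ) ≫
        Sigma.desc (Fin.cases s (fun i => Sigma.ι (fun i : Fin n => f i.succ) i ≫ e.inv ≫ σ)) = e.inv ≫ σ :=
      Sigma.hom_ext _ _ fun i => by simp
    simp [h, hid]
  inv_hom_id := Sigma.hom_ext _ _ fun i => by
    induction i using Fin.cases with
    | zero => simp [Preadditive.comp_add, reassoc_of% hsρ, reassoc_of% hsπ]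
    | succ i => simp [Preadditive.comp_add, reassoc_of% hσρ, reassoc_of% hσπ]

variable {k : Type u} [Field k]

local notation "P" => CohB1.ProjSpace 1 k
local notation "T(" d ")" => Twist.twistProjSpace 1 k d

theorem exists_decomp : ∀ (r : ℕ) (E : (CohB1.ProjSpace 1 k).Modules), Coh.IsCoh E →
    (∀ x : CohB1.ProjSpace 1 k,
      Nonempty (Module.Basis (Fin r) ((CohB1.ProjSpace 1 k).presheaf.stalk x) (E.presheaf.stalk x))) →
    ∃ d : Fin r → ℤ, Nonempty (E ≅ ∐ fun i : Fin r => Twist.twistProjSpace 1 k (d i))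
  | 0, E, _, hb => by
    refine ⟨Fin.elim0, ⟨IsZero.iso (ModStalk.isZero_of_stalks fun x => ?_) ?_⟩⟩
    · haveI : Subsingleton ((DerSch.stalkFunctor P x).obj E) :=
        (hb x).some.repr.toEquiv.subsingleton
      exact ModuleCat.isZero_of_subsingleton _
    · rw [IsZero.iff_id_eq_zero]
      exact Sigma.hom_ext _ _ fun i => i.elim0
  | r + 1, E, hE, hb => by
    haveI := hE.1
    obtain ⟨d, s, ρ, hρ⟩ := exists_retraction hE hb
    haveI : IsSplitMono s := IsSplitMono.mk' ⟨ρ, hρ⟩
    let S := ShortComplex.mk s (cokernel.π s) (cokernel.condition s)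
    let σ : S.Splitting :=
      ShortComplex.Splitting.ofExactOfRetraction S (ShortComplex.exact_of_g_is_cokernel _ (cokernelIsCokernel _))
        ρ hρ inferInstance
    have hF : Coh.IsCoh (cokernel s) := isCoh_cokernel _ (isCoh_twist_obj k d).1 hE
    have hbF : ∀ x : P, Nonempty (Module.Basis (Fin r) ((P).presheaf.stalk x) ((cokernel s).presheaf.stalk x)) := by
      intro x
      let G := DerSch.stalkFunctor P x
      let A := (P).presheaf.stalk x
      let fS : G.obj T(d) →ₗ[A] G.obj E := (G.map s).hom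
      let fR : G.obj E →ₗ[A] G.obj T(d) := (G.map σ.r).hom
      let fπ : G.obj E →ₗ[A] G.obj (cokernel s) := (G.map (cokernel.π s)).hom
      let fσ : G.obj (cokernel s) →ₗ[A] G.obj E := (G.map σ.s).hom
      have e1 : ∀ a, fR (fS a) = a := fun a => by
        show (G.map s ≫ G.map σ.r) a = a
        rw [← G.map_comp, show s ≫ σ.r = 𝟙 _ from σ.f_r, G.map_id]; rfl
      have e2 : ∀ b, fπ (fσ b) = b := fun b => by
        show (G.map σ.s ≫ G.map (cokernel.π s)) b = b
        rw [← G.map_comp, show σ.s ≫ cokernel.π s = 𝟙 _ from σ.s_g, G.map_id]; rfl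
      have e3 : ∀ a, fπ (fS a) = 0 := fun a => by
        show (G.map s ≫ G.map (cokernel.π s)) a = 0
        rw [← G.map_comp, cokernel.condition, G.map_zero]; rfl
      have e4 : ∀ b, fR (fσ b) = 0 := fun b => by
        show (G.map σ.s ≫ G.map σ.r) b = 0
        rw [← G.map_comp, σ.s_r, G.map_zero]; rfl
      have e5 : ∀ v, fS (fR v) + fσ (fπ v) = v := fun v => by
        show (G.map σ.r ≫ G.map s + G.map (cokernel.π s) ≫ G.map σ.s) v = v
        rw [← G.map_comp, ← G.map_comp, ← G.map_add, show σ.r ≫ s + cokernel.π s ≫ σ.s = 𝟙 _ from σ.id, G.map_id]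
        rfl
      let e : G.obj E ≃ₗ[A] G.obj T(d) × G.obj (cokernel s) :=
        { fR.prod fπ with
          invFun := fun p => fS p.1 + fσ p.2
          left_inv := e5
          right_inv := fun p => Prod.ext
            (by show fR (fS p.1 + fσ p.2) = p.1; rw [map_add, e1, e4, add_zero])
            (by show fπ (fS p.1 + fσ p.2) = p.2; rw [map_add, e3, e2, zero_add]) }
      let bE : Module.Basis (Fin (r + 1)) A (G.obj E) := (hb x).some
      let bT : Module.Basis (Fin 1) A (G.obj T(d)) :=
        (nonempty_basis_stalk (isFinLocFreeOfRank_one (inv_twist k d)) x).some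
      haveI : Module.Finite A (G.obj E) := Module.Finite.of_basis bE
      haveI : Module.Free A (G.obj E) := Module.Free.of_basis bE
      haveI : Module.Finite A (G.obj T(d)) := Module.Finite.of_basis bT
      haveI : Module.Free A (G.obj T(d)) := Module.Free.of_basis bT
      haveI : Module.Finite A (G.obj (cokernel s)) :=
        Module.Finite.of_surjective fπ fun b => ⟨fσ b, e2 b⟩
      haveI : Module.Projective A (G.obj (cokernel s)) :=
        Module.Projective.of_split fσ fπ (LinearMap.ext e2)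
      haveI : Module.Flat A (G.obj (cokernel s)) := inferInstance
      haveI : Module.Free A (G.obj (cokernel s)) := Module.free_of_flat_of_isLocalRing
      have hfr := e.finrank_eq
      rw [Module.finrank_eq_card_basis bE, Fintype.card_fin, Module.finrank_prod,
        Module.finrank_eq_card_basis bT, Fintype.card_fin] at hfr
      exact ⟨Module.finBasisOfFinrankEq A (G.obj (cokernel s)) (by omega)⟩
    obtain ⟨d', ⟨e⟩⟩ := exists_decomp r (cokernel s) hF hbF
    exact ⟨Fin.cons d d', ⟨sigmaConsIso (fun i => T((Fin.cons d d' : Fin (r + 1) → ℤ) i)) (F := cokernel s)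
      s ρ (cokernel.π s) σ.s hρ σ.s_g σ.id σ.s_r (cokernel.condition s) e⟩⟩

/-- Maps out of a sum of twists. -/
theorem finrank_hom_sigma {r : ℕ} (d : Fin r → ℤ) (b : ℤ) :
    Module.finrank k ((∐ fun i : Fin r => Twist.twistProjSpace 1 k (d i)) ⟶ Twist.twistProjSpace 1 k b) =
      ∑ i, (b - d i + 1).toNat := by
  let F : Fin r → (CohB1.ProjSpace 1 k).Modules := fun i => T(d i)
  let B : (CohB1.ProjSpace 1 k).Modules := T(b)
  let e : ((∐ F) ⟶ B) ≃ₗ[k] ((i : Fin r) → (F i ⟶ B)) :=
    { toFun := fun φ i => Sigma.ι F i ≫ φ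
      map_add' := fun φ ψ => funext fun i => Preadditive.comp_add _ _ _ (Sigma.ι F i) φ ψ
      map_smul' := fun c φ => funext fun i => Linear.comp_smul _ _ _ (Sigma.ι F i) c φ
      invFun := fun g => Sigma.desc g
      left_inv := fun φ => Sigma.hom_ext _ _ fun i => Sigma.ι_desc (fun j => Sigma.ι F j ≫ φ) i
      right_inv := fun g => funext fun i => Sigma.ι_desc g i }
  haveI : ∀ i, Module.Finite k (T(d i) ⟶ T(b)) := fun i => finite_hom_twist (isCoh_twist_obj k (d i)) b
  rw [e.finrank_eq, Module.finrank_pi_fintype]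
  exact Finset.sum_congr rfl fun i _ => finrank_hom_twist _ _

theorem eq_of_iso {r : ℕ} {d d' : Fin r → ℤ} (hd : Antitone d) (hd' : Antitone d')
    (e : (∐ fun i : Fin r => Twist.twistProjSpace 1 k (d i)) ≅ ∐ fun i : Fin r => Twist.twistProjSpace 1 k (d' i)) :
    d = d' := by
  have hcount : ∀ b, (Finset.univ.filter fun i => d i ≤ b).card = (Finset.univ.filter fun i => d' i ≤ b).card := by
    intro b
    have h : ∀ b, ∑ i, (b - d i + 1).toNat = ∑ i, (b - d' i + 1).toNat := fun b => by
      rw [← finrank_hom_sigma (k := k), ← finrank_hom_sigma (k := k)]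
      exact (Linear.homCongr k e (Iso.refl T(b))).finrank_eq
    have hstep : ∀ c : Fin r → ℤ, ∑ i, (b - c i + 1).toNat =
        ∑ i, (b - 1 - c i + 1).toNat + (Finset.univ.filter fun i => c i ≤ b).card := fun c => by
      rw [Finset.card_filter, ← Finset.sum_add_distrib]
      refine Finset.sum_congr rfl fun i _ => ?_
      split_ifs with hc <;> omega
    have h1 := h b
    rw [hstep d, hstep d', h (b - 1)] at h1
    omega
  have key : ∀ (c c' : Fin r → ℤ), Antitone c → Antitone c' →
      (∀ b, (Finset.univ.filter fun i => c i ≤ b).card = (Finset.univ.filter fun i => c' i ≤ b).card) →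
      ∀ i, c' i ≤ c i := by
    intro c c' hc hc' h i
    by_contra hlt
    push Not at hlt
    have h1 : (Finset.Ici i).card ≤ (Finset.univ.filter fun j => c j ≤ c i).card :=
      Finset.card_le_card fun j hj => Finset.mem_filter.2 ⟨Finset.mem_univ j, hc (Finset.mem_Ici.1 hj)⟩
    have h2 : (Finset.univ.filter fun j => c' j ≤ c i).card ≤ (Finset.Ioi i).card :=
      Finset.card_le_card fun j hj => Finset.mem_Ioi.2 (by
        by_contra hji
        have := (Finset.mem_filter.1 hj).2
        have := hc' (le_of_not_gt hji)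
        omega)
    rw [h (c i)] at h1
    have := h1.trans h2
    rw [Fin.card_Ici, Fin.card_Ioi] at this
    omega
  funext i
  exact le_antisymm (key d' d hd' hd (fun b => (hcount b).symm) i) (key d d' hd hd' hcount i)

theorem existsUnique_splitting (r : ℕ) (E : (CohB1.ProjSpace 1 k).Modules)
    (hE : FlatMod.IsFinLocFreeOfRank r E) :
    ∃! d : Fin r → ℤ, Antitone d ∧ Nonempty (E ≅ ∐ fun i : Fin r => Twist.twistProjSpace 1 k (d i)) := by
  obtain ⟨d, ⟨e⟩⟩ := exists_decomp r E (isCoh_of_rank hE) fun x => nonempty_basis_stalk hE x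
  let π := Tuple.sort fun i => -d i
  have hmono : Monotone ((fun i => -d i) ∘ π) := Tuple.monotone_sort _
  have hanti : Antitone (d ∘ π) := fun a b hab => neg_le_neg_iff.1 (hmono hab)
  let w : (∐ fun i : Fin r => T(d (π i))) ≅ ∐ fun i : Fin r => T(d i) :=
    Sigma.reindex π (fun i : Fin r => T(d i))
  refine ⟨d ∘ π, ⟨hanti, ⟨e ≪≫ w.symm⟩⟩, ?_⟩
  rintro d' ⟨hd', ⟨e'⟩⟩
  exact eq_of_iso hd' hanti (e'.symm ≪≫ e ≪≫ w.symm)

end Groth.Agent.SplitP1
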